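import Groth.Agent.Lib.GeomInt5.Trait
import Groth.Agent.Lib.ZConn5.CountFlat
import Groth.Agent.S1334
import Groth.Agent.S1338
import Groth.Agent.S1539
import Groth.Agent.Lib.GeomIrr18.Res

/-!
The locus of geometrically integral fibres of a proper flat morphism of finite presentation is open
(EGA IV 12.2.4 (viii)).
-/

set_option autoImplicit false
set_option linter.style.haveILetI false
set_option backward.isDefEq.respectTransparency false
set_option backward.isDefEq.respectTransparency.types false

universe u

open CategoryTheory CategoryTheory.Limits AlgebraicGeometry TopologicalSpace IsLocalRing Topology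

namespace Groth.Agent.GeomInt5

variable {X Y : Scheme.{u}}

theorem encard_irreducibleComponents_eq_one_iff {α : Type*} [TopologicalSpace α] :
    (irreducibleComponents α).encard = 1 ↔ IrreducibleSpace α := by
  refine ⟨fun h => ?_, fun h => ?_⟩
  · obtain ⟨C, hC⟩ := Set.encard_eq_one.1 h
    have hCirr : IsIrreducible C := (hC.ge rfl : C ∈ irreducibleComponents α).1
    refine (irreducibleSpace_def α).2 ?_
    convert hCirr
    refine Set.eq_univ_of_forall (fun a => ?_) |>.symm
    have : irreducibleComponent a ∈ ({C} : Set (Set α)) := hC ▸ irreducibleComponent_mem_irreducibleComponents a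
    exact this ▸ mem_irreducibleComponent
  · refine Set.encard_eq_one.2 ⟨Set.univ, Set.eq_singleton_iff_unique_mem.2 ⟨?_, fun C hC => ?_⟩⟩
    · exact ⟨(irreducibleSpace_def α).1 h, fun _ _ _ => Set.subset_univ _⟩
    · exact (Set.subset_univ C).antisymm (hC.2 ((irreducibleSpace_def α).1 h) (Set.subset_univ C))

/-- One geometric component means geometrically irreducible. -/
theorem geometricallyIrreducible_iff_count (f : X ⟶ Y) (y : Y) :
    GeometricallyIrreducible (f.fiberToSpecResidueField y) ↔ MoreMor.nGeomIrredComp f y = 1 := by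
  rw [MoreMor.nGeomIrredComp, encard_irreducibleComponents_eq_one_iff]
  refine ⟨fun h => ?_, fun h => ?_⟩
  · exact GeometricallyIrreducible.geometrically_irreducibleSpace (f := f.fiberToSpecResidueField y) _ _ _
      (IsPullback.of_hasPullback _ _)
  · haveI : IrreducibleSpace ↥(pullback (f.fiberToSpecResidueField y)
      (Spec.map (CommRingCat.ofHom (algebraMap (Y.residueField y) (SeparableClosure (Y.residueField y)))))) := h
    exact GeomIrr.geometricallyIrreducible_of_bc (k := Y.residueField y) (f.fiberToSpecResidueField y) (SeparableClosure (Y.residueField y))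

/-- Along a complete trait: geometrically integral closed fibre gives geometrically irreducible generic fibre. -/
theorem count_generic (f : X ⟶ Y) [IsProper f] [Flat f] [LocallyOfFinitePresentation f]
    {A : Type u} [CommRing A] [IsDomain A] [IsDiscreteValuationRing A] [IsAdicComplete (maximalIdeal A) A]
    [IsAlgClosed (ResidueField A)] (g : Spec (CommRingCat.of A) ⟶ Y)
    (hint : GeometricallyIntegral (f.fiberToSpecResidueField (g (closedPoint A)))) :
    MoreMor.nGeomIrredComp f (g (genericPoint (Spec (CommRingCat.of A)))) = 1 := by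
  let K := FractionRing A
  let jA : Spec (CommRingCat.of K) ⟶ Spec (CommRingCat.of A) := Spec.map (CommRingCat.ofHom (algebraMap A K))
  have hjA : jA (closedPoint K) = genericPoint (Spec (CommRingCat.of A)) := S4978.pt_generic (K := K) A
  let P := pullback f (jA ≫ g)
  letI : P.Over (Spec (CommRingCat.of K)) := ⟨pullback.snd f (jA ≫ g)⟩
  have h1 := S1334.result f (pullback.snd f (jA ≫ g)) _ _ (IsPullback.of_hasPullback f (jA ≫ g)) (closedPoint K)
  rw [Scheme.Hom.comp_apply, hjA] at h1
  rw [← h1, ← geometricallyIrreducible_iff_count]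
  suffices GeometricallyIrreducible (pullback.snd f (jA ≫ g)) from inferInstance
  refine S1539.result K P fun L _ _ hfin _ => ?_
  haveI := hfin
  letI : Algebra A L := ((algebraMap K L).comp (algebraMap A K)).toAlgebra
  haveI : IsScalarTower A K L := IsScalarTower.of_algebraMap_eq fun _ => rfl
  obtain ⟨hB, hBloc, hBres⟩ := GeomPts5.integralClosure_dvr A L
  haveI := hB
  haveI := hBloc
  haveI := hBres
  haveI : FaithfulSMul A L := (faithfulSMul_iff_algebraMap_injective A L).2
    ((algebraMap K L).injective.comp (IsFractionRing.injective A K))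
  haveI : IsFractionRing (integralClosure A L) L := integralClosure.isFractionRing_of_finite_extension K L
  let cA : Spec (CommRingCat.of (integralClosure A L)) ⟶ Spec (CommRingCat.of A) :=
    Spec.map (CommRingCat.ofHom (algebraMap A (integralClosure A L)))
  let j : Spec (CommRingCat.of L) ⟶ Spec (CommRingCat.of (integralClosure A L)) :=
    Spec.map (CommRingCat.ofHom (algebraMap (integralClosure A L) L))
  haveI : IsPreimmersion j := IsPreimmersion.of_isLocalization (nonZeroDivisors (integralClosure A L))
  let gB := cA ≫ g
  have hgB : gB (closedPoint _) = g (closedPoint A) := congrArg g (IsLocalRing.comap_closedPoint (algebraMap A _))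
  have hpb : j ≫ gB = Spec.map (CommRingCat.ofHom (algebraMap K L)) ≫ jA ≫ g := by
    simp only [j, gB, cA, jA, ← Category.assoc, ← Spec.map_comp, ← CommRingCat.ofHom_comp]
    rfl
  haveI : IsIntegral ((pullback.snd f gB).fiber (closedPoint (integralClosure A L))) := by
    let a := (closedPoint (integralClosure A L) : Spec (CommRingCat.of (integralClosure A L)))
    obtain ⟨pr, -, hsq⟩ := FibDim14.exists_fibre_square (IsPullback.of_hasPullback f gB) a
    have h' : GeometricallyIntegral (f.fiberToSpecResidueField (gB a)) := by rw [hgB]; exact hint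
    exact h'.geometrically_isIntegral _ _ _ hsq
  haveI := irreducibleSpace (pullback.snd f gB)
  haveI : LocallyOfFinitePresentation (pullback.snd f gB) := MorphismProperty.pullback_snd _ _ inferInstance
  let q := pullback.snd f gB
  let p := pullback.fst q j
  let η := genericPoint (Spec (CommRingCat.of (integralClosure A L)))
  have hη : IsOpen ({η} : Set (Spec (CommRingCat.of (integralClosure A L)))) := by
    have hne : closedPoint (integralClosure A L) ≠ η := fun h =>
      IsDiscreteValuationRing.not_a_field (integralClosure A L)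
        (by simp only [η, genericPoint_eq_bot_of_affine] at h; exact congrArg PrimeSpectrum.asIdeal h)
    rw [show ({η} : Set (Spec (CommRingCat.of (integralClosure A L)))) =
        ({closedPoint (integralClosure A L)} : Set (Spec (CommRingCat.of (integralClosure A L))))ᶜ from Set.ext fun t =>
      ⟨fun ht ht' => hne (ht'.symm.trans ht), fun ht => (GenLen5.eq_closedPoint_or_generic t).resolve_left ht⟩]
    exact (isClosed_singleton_closedPoint _).isOpen_compl
  have hjη : j (closedPoint L) = η := S4978.pt_generic (K := L) _
  have hr : Set.range p = q ⁻¹' {η} := by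
    rw [Scheme.Pullback.range_fst]
    refine congrArg (q ⁻¹' ·) (Set.eq_singleton_iff_unique_mem.2 ⟨⟨_, hjη⟩, ?_⟩)
    rintro _ ⟨t, rfl⟩
    rw [Subsingleton.elim (α := PrimeSpectrum L) t (closedPoint L), hjη]
  have hemb : IsOpenEmbedding p.base := ⟨p.isEmbedding, hr ▸ hη.preimage q.continuous⟩
  obtain ⟨z⟩ : Nonempty ↥(pullback f gB) := inferInstance
  obtain ⟨z', -, hz'⟩ := (genericPoint_specializes (q z)).mem_open (q.isOpenMap _ isOpen_univ) ⟨z, trivial, rfl⟩
  have hnon : (Set.univ ∩ Set.range p).Nonempty := ⟨z', trivial, hr.ge hz'⟩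
  haveI : IrreducibleSpace ↥(pullback q j) := by
    refine (irreducibleSpace_def _).2 ?_
    have := ((irreducibleSpace_def ↥(pullback f gB)).1 inferInstance).preimage hemb hnon
    exact this
  let e := Scheme.homeoOfIso (pullbackLeftPullbackSndIso f (jA ≫ g) (Spec.map (CommRingCat.ofHom (algebraMap K L))) ≪≫
      pullback.congrHom rfl hpb.symm ≪≫ (pullbackLeftPullbackSndIso f gB j).symm)
  refine (irreducibleSpace_def _).2 ?_
  have := ((irreducibleSpace_def ↥(pullback q j)).1 inferInstance).image e.symm e.symm.continuous.continuousOn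
  rw [Set.top_eq_univ, Set.image_univ, e.symm.surjective.range_eq] at this
  exact this

theorem isOpen_noetherian [IsLocallyNoetherian Y] (f : X ⟶ Y) [IsProper f] [Flat f] [LocallyOfFinitePresentation f] :
    IsOpen {y : Y | GeometricallyReduced (f.fiberToSpecResidueField y) ∧ MoreMor.nGeomIrredComp f y = 1} := by
  have hG : IsOpen {y : Y | ∀ z : f.fiber y, FBase.IsGeomReducedAt (f.fiberToSpecResidueField y) z} :=
    FibDepth5.isOpen_forall_fiber f (fun y z => FBase.IsGeomReducedAt (f.fiberToSpecResidueField y) z)
      (by
        convert FibDepth5.isOpen_flat_geomReduced f using 1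
        exact Set.ext fun x => ⟨fun h => ⟨Flat.stalkMap f x, h⟩, fun h => h.2⟩)
  refine isOpen_iff_mem_nhds.2 fun y ⟨hy, hk⟩ => ?_
  have hnc : y ∉ closure {z : Y | MoreMor.nGeomIrredComp f z = 1}ᶜ :=
    ZConn5.notMem_closure (fun x => (S1338.result f 1 x).imp fun U h => ⟨h.1, h.2.1, h.2.2.compl⟩) fun y' hy' hne => hne <| by
      show MoreMor.nGeomIrredComp f y' = 1
      by_cases he : y' = y
      · exact he ▸ hk
      obtain ⟨A, _, _, _, _, _, g, hg, hg'⟩ := ZConn5.exists_complete_trait hy' he
      rw [← hg']
      refine count_generic f g ?_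
      rw [hg]
      haveI := hy
      haveI := (geometricallyIrreducible_iff_count f y).2 hk
      exact GeometricallyIntegral.of_geometricallyReduced_of_geometricallyIrreducible _
  refine Filter.mem_of_superset (Filter.inter_mem (isClosed_closure.isOpen_compl.mem_nhds hnc)
    (hG.mem_nhds fun z => (ZConn5.geometricallyReduced_iff_forall (k := Y.residueField y) _).1 hy z)) fun z hz => ?_
  exact ⟨(ZConn5.geometricallyReduced_iff_forall (k := Y.residueField z) _).2 hz.2,
    not_not.1 fun h => hz.1 (subset_closure h)⟩

theorem geometricallyIntegral_iff (f : X ⟶ Y) (y : Y) :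
    GeometricallyIntegral (f.fiberToSpecResidueField y) ↔
      GeometricallyReduced (f.fiberToSpecResidueField y) ∧ MoreMor.nGeomIrredComp f y = 1 := by
  rw [← geometricallyIrreducible_iff_count]
  exact ⟨fun h => ⟨inferInstance, inferInstance⟩, fun ⟨_, _⟩ =>
    GeometricallyIntegral.of_geometricallyReduced_of_geometricallyIrreducible _⟩

theorem isOpen_geometricallyIntegral (f : X ⟶ Y) [IsProper f] [Flat f] [LocallyOfFinitePresentation f] :
    IsOpen {y : Y | GeometricallyIntegral (f.fiberToSpecResidueField y)} := by
  simp only [geometricallyIntegral_iff]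
  refine isOpen_iff_mem_nhds.2 fun y hy => ?_
  obtain ⟨U, hU, hyU, -⟩ := exists_isAffineOpen_mem_and_subset (X := Y) (x := y) (U := ⊤) trivial
  let j := hU.fromSpec
  obtain ⟨S₁, X₁, _, π, u₁, q, sq, _, _, _⟩ := ZConn5.exists_model (pullback.snd f j)
  have hsq : IsPullback (pullback.fst f j) (pullback.snd f j) f j := IsPullback.of_hasPullback f j
  have key : ∀ p, (GeometricallyReduced (f.fiberToSpecResidueField (j p)) ∧ MoreMor.nGeomIrredComp f (j p) = 1) ↔
      (GeometricallyReduced (u₁.fiberToSpecResidueField (π p)) ∧ MoreMor.nGeomIrredComp u₁ (π p) = 1) := fun p => by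
    rw [← ZConn5.geometricallyReduced_fibre_iff hsq, ZConn5.geometricallyReduced_fibre_iff sq,
      ← S1334.result _ _ _ _ hsq p, S1334.result _ _ _ _ sq p]
  let p := hU.primeIdealOf ⟨y, hyU⟩
  have hp : j p = y := hU.fromSpec_primeIdealOf ⟨y, hyU⟩
  rw [← hp] at hy ⊢
  have hV := ((isOpen_noetherian u₁).preimage π.continuous).mem_nhds (show π p ∈ {y : S₁ | GeometricallyReduced (u₁.fiberToSpecResidueField y) ∧ MoreMor.nGeomIrredComp u₁ y = 1} from (key p).1 hy)
  refine Filter.mem_of_superset (j.isOpenEmbedding.isOpenMap.image_mem_nhds hV) ?_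
  rintro _ ⟨z, hz, rfl⟩
  exact (key z).2 hz

end Groth.Agent.GeomInt5
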