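import Groth.Agent.Lib.GeomInt5.Trait
import Groth.Agent.Lib.Cons12.PtIntegral
import Groth.Agent.Lib.GeomIrr18.Level
import Groth.Agent.Lib.ZConn5.CountFlat
import Groth.Agent.Lib.Cyc26.PullDiv

/-!
The locus of geometrically pointwise integral fibres of a proper flat morphism of finite presentation is open
(EGA IV 12.2.4 (vii)).
-/

set_option autoImplicit false
set_option linter.style.haveILetI false
set_option backward.isDefEq.respectTransparency false
set_option backward.isDefEq.respectTransparency.types false

universe u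

open CategoryTheory CategoryTheory.Limits AlgebraicGeometry TopologicalSpace IsLocalRing Topology

namespace Groth.Agent.GeomInt5

variable {X Y : Scheme.{u}}

theorem isDomain_of_specializes {Z : Scheme.{u}} {ξ x : Z} (h : ξ ⤳ x) [IsDomain (Z.presheaf.stalk x)] :
    IsDomain (Z.presheaf.stalk ξ) := by
  letI := (Z.presheaf.stalkSpecializes h).hom.toAlgebra
  haveI := Cyc26.isLocalization_stalkSpecializes h
  exact IsLocalization.isDomain_of_le_nonZeroDivisors (R := Z.presheaf.stalk x) (S := Z.presheaf.stalk ξ)
    (M := (RingHom.ker (Cyc.specMap x ξ h)).primeCompl) (Ideal.primeCompl_le_nonZeroDivisors _)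

theorem isDomain_stalk_of_flat_preimmersion {Z Z' : Scheme.{u}} (p : Z' ⟶ Z) [IsPreimmersion p] [Flat p] (z : Z')
    [IsDomain (Z.presheaf.stalk (p z))] : IsDomain (Z'.presheaf.stalk z) :=
  MulEquiv.isDomain _ (RingEquiv.ofBijective (p.stalkMap z).hom
    ⟨GeomRed.stalkMap_injective p z, p.stalkMap_surjective z⟩).toMulEquiv.symm

theorem irreducibleComponents_le_of_preimage {α β : Type u} [TopologicalSpace α] [TopologicalSpace β] (p : α → β)
    (hp : Continuous p) [NoetherianSpace β] (h : ∀ T ∈ irreducibleComponents β, IsIrreducible (p ⁻¹' T)) :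
    (irreducibleComponents α).encard ≤ (irreducibleComponents β).encard := by
  have hfin := NoetherianSpace.finite_irreducibleComponents (α := β)
  refine le_trans (Set.encard_le_encard (t := (p ⁻¹' ·) '' irreducibleComponents β) fun C hC => ?_)
    (Set.encard_image_le _ _)
  obtain ⟨T, hT, hCT⟩ : ∃ T ∈ irreducibleComponents β, C ⊆ p ⁻¹' T := by
    classical
    have hcov : C ⊆ ⋃₀ ↑(hfin.toFinset.image (p ⁻¹' ·)) := fun a _ => by
      refine Set.mem_sUnion.2 ⟨p ⁻¹' irreducibleComponent (p a), Finset.mem_coe.2 (Finset.mem_image.2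
        ⟨_, hfin.mem_toFinset.2 (irreducibleComponent_mem_irreducibleComponents _), rfl⟩), mem_irreducibleComponent⟩
    obtain ⟨S, hS, hCS⟩ := isIrreducible_iff_sUnion_isClosed.1 hC.1 (hfin.toFinset.image (p ⁻¹' ·)) (fun S hS => by
      obtain ⟨T, hT, rfl⟩ := Finset.mem_image.1 hS
      exact (isClosed_of_mem_irreducibleComponents T (hfin.mem_toFinset.1 hT)).preimage hp) hcov
    obtain ⟨T, hT, rfl⟩ := Finset.mem_image.1 hS
    exact ⟨T, hfin.mem_toFinset.1 hT, hCS⟩
  exact ⟨T, hT, (hCT.antisymm (hC.2 (h T hT) hCT)).symm⟩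

/-- Along a complete trait: pointwise integral closed fibre gives disjoint geometric components of the generic fibre. -/
theorem count_generic_ptInt (f : X ⟶ Y) [IsProper f] [Flat f]
    {A : Type u} [CommRing A] [IsDomain A] [IsDiscreteValuationRing A] [IsAdicComplete (maximalIdeal A) A]
    [IsAlgClosed (ResidueField A)] (g : Spec (CommRingCat.of A) ⟶ Y)
    (hint : ∀ x : f.fiber (g (closedPoint A)),
      FBase.IsGeomPtIntegralAt (f.fiberToSpecResidueField (g (closedPoint A))) x) :
    MoreMor.nGeomIrredComp f (g (genericPoint (Spec (CommRingCat.of A)))) ≤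
      MoreMor.nGeomConnComp f (g (genericPoint (Spec (CommRingCat.of A)))) := by
  let K := FractionRing A
  let jA : Spec (CommRingCat.of K) ⟶ Spec (CommRingCat.of A) := Spec.map (CommRingCat.ofHom (algebraMap A K))
  have hjA : jA (closedPoint K) = genericPoint (Spec (CommRingCat.of A)) := S4978.pt_generic (K := K) A
  let P := pullback f (jA ≫ g)
  letI : P.Over (Spec (CommRingCat.of K)) := ⟨pullback.snd f (jA ≫ g)⟩
  have hfin : {z : ↥(Curv2.bc K P (SeparableClosure K)) | GeomIrr.IsMaximalPt z}.Finite := by
    let r : Curv2.bc K P (SeparableClosure K) ⟶ Spec (CommRingCat.of (SeparableClosure K)) :=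
      Curv2.bcSnd K P (SeparableClosure K)
    haveI : IsProper r := MorphismProperty.pullback_snd (P := @IsProper) (pullback.snd f (jA ≫ g)) _ inferInstance
    haveI : IsLocallyNoetherian (Curv2.bc K P (SeparableClosure K)) := LocallyOfFiniteType.isLocallyNoetherian r
    haveI : CompactSpace ↥(Curv2.bc K P (SeparableClosure K)) := QuasiCompact.compactSpace_of_compactSpace r
    haveI : AlgebraicGeometry.IsNoetherian (Curv2.bc K P (SeparableClosure K)) := {}
    refine Set.Finite.of_finite_image
      ((NoetherianSpace.finite_irreducibleComponents (α := ↥(Curv2.bc K P (SeparableClosure K)))).subset ?_)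
      (f := fun z => closure ({z} : Set ↥(Curv2.bc K P (SeparableClosure K)))) ?_
    · rintro _ ⟨z, hz, rfl⟩
      exact GeomIrr.closure_mem_of_isMaximalPt hz
    · exact fun z _ w _ hzw => (inseparable_iff_closure_eq.2 hzw).eq
  obtain ⟨F, hF, hlev⟩ := GeomIrr.exists_level_irreducible K P hfin
  haveI := hF
  let L : Type u := ↥F
  letI : Algebra A L := ((algebraMap K L).comp (algebraMap A K)).toAlgebra
  haveI : IsScalarTower A K L := IsScalarTower.of_algebraMap_eq fun _ => rfl
  obtain ⟨hB, hBloc, hBres⟩ := GeomPts5.integralClosure_dvr A L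
  haveI := hB
  haveI := hBloc
  haveI := hBres
  haveI : FaithfulSMul A L := (faithfulSMul_iff_algebraMap_injective A L).2
    ((algebraMap K L).injective.comp (IsFractionRing.injective A K))
  haveI : IsFractionRing (integralClosure A L) L := integralClosure.isFractionRing_of_finite_extension K L
  let cA : Spec (CommRingCat.of (integralClosure A L)) ⟶ Spec (CommRingCat.of A) :=
    Spec.map (CommRingCat.ofHom (algebraMap A (integralClosure A L)))
  let j : Spec (CommRingCat.of L) ⟶ Spec (CommRingCat.of (integralClosure A L)) :=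
    Spec.map (CommRingCat.ofHom (algebraMap (integralClosure A L) L))
  haveI : IsPreimmersion j := IsPreimmersion.of_isLocalization (nonZeroDivisors (integralClosure A L))
  haveI : Flat j := by
    rw [Flat.SpecMap_iff]
    exact RingHom.flat_algebraMap_iff.2 (IsLocalization.flat L (nonZeroDivisors (integralClosure A L)))
  let gB := cA ≫ g
  have hgB : gB (closedPoint _) = g (closedPoint A) := congrArg g (IsLocalRing.comap_closedPoint (algebraMap A _))
  have hpb : j ≫ gB = Spec.map (CommRingCat.ofHom (algebraMap K L)) ≫ jA ≫ g := by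
    simp only [j, gB, cA, jA, ← Category.assoc, ← Spec.map_comp, ← CommRingCat.ofHom_comp]
    rfl
  let q := pullback.snd f gB
  have hdom : ∀ x : ↥(pullback f gB), IsDomain ((pullback f gB).presheaf.stalk x) := by
    intro x
    obtain ⟨c, hxc, hc⟩ := IsClosed.exists_closed_singleton (isClosed_closure (s := ({x} : Set ↥(pullback f gB)))) ⟨x, subset_closure rfl⟩
    have hqc : q c = closedPoint (integralClosure A L) := by
      have h1 := q.isClosedMap _ hc
      rw [Set.image_singleton] at h1
      exact ((specializes_closedPoint (q c)).mem_closed h1 rfl).symm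
    have hfc : f (pullback.fst f gB c) = g (closedPoint A) := by
      rw [← Scheme.Hom.comp_apply, pullback.condition, Scheme.Hom.comp_apply]
      exact (congrArg gB hqc).trans hgB
    have h2 : FBase.IsGeomPtIntegralAt (f.fiberToSpecResidueField (f (pullback.fst f gB c)))
        (f.asFiber (pullback.fst f gB c)) := by
      have key : ∀ y, y = g (closedPoint A) → ∀ w : f.fiber y, FBase.IsGeomPtIntegralAt (f.fiberToSpecResidueField y) w := by
        rintro y rfl w; exact hint w
      exact key _ hfc _
    haveI := isDomain_stalk q c hqc (GeomIntUnibr4.isDomain_stalk_of_geomPtIntegral _ _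
      (GeomIntUnibr4.isGeomPtIntegralAt_baseChange f (IsPullback.of_hasPullback f gB) c h2))
    exact isDomain_of_specializes (specializes_iff_mem_closure.2 hxc)
  let σ := Spec.map (CommRingCat.ofHom (algebraMap K L))
  let r : Curv2.bc K P L ⟶ Spec (CommRingCat.of L) := Curv2.bcSnd K P L
  haveI : IsProper r := MorphismProperty.pullback_snd (P := @IsProper) (pullback.snd f (jA ≫ g)) σ inferInstance
  haveI : IsLocallyNoetherian (Curv2.bc K P L) := LocallyOfFiniteType.isLocallyNoetherian r
  haveI : CompactSpace ↥(Curv2.bc K P L) := QuasiCompact.compactSpace_of_compactSpace r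
  haveI : AlgebraicGeometry.IsNoetherian (Curv2.bc K P L) := {}
  let e : Curv2.bc K P L ≅ pullback q j :=
    pullbackLeftPullbackSndIso f (jA ≫ g) σ ≪≫ pullback.congrHom rfl hpb.symm ≪≫ (pullbackLeftPullbackSndIso f gB j).symm
  haveI : Flat (pullback.fst q j) := MorphismProperty.pullback_fst (P := @Flat) _ _ inferInstance
  have hdomL : ∀ z : ↥(Curv2.bc K P L), IsDomain ((Curv2.bc K P L).presheaf.stalk z) := fun z => by
    haveI := hdom (pullback.fst q j (e.hom z))
    exact isDomain_stalk_of_flat_preimmersion (e.hom ≫ pullback.fst q j) z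
  have hcards : (irreducibleComponents ↥(Curv2.bc K P L)).encard =
      ENat.card (_root_.ConnectedComponents ↥(Curv2.bc K P L)) :=
    Cons12.encard_eq_card_iff.2 fun x S hS T hT hxS hxT =>
      ((Easy12.components_of_isDomain_stalk (X := Curv2.bc K P L) hdomL).2 x).unique ⟨hS, hxS⟩ ⟨hT, hxT⟩
  let Ω := AlgebraicClosure L
  let τ := Spec.map (CommRingCat.ofHom (algebraMap L Ω))
  let π := pullback.fst r τ
  let t : Spec (CommRingCat.of Ω) ⟶ Y := τ ≫ σ ≫ jA ≫ g
  let e' : pullback r τ ≅ pullback f t :=
    pullbackLeftPullbackSndIso (pullback.snd f (jA ≫ g)) σ τ ≪≫ pullbackLeftPullbackSndIso f (jA ≫ g) (τ ≫ σ) ≪≫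
      pullback.congrHom rfl (Category.assoc _ _ _)
  obtain ⟨c1, c2⟩ := GeomSpread4.count_point f t
  have ht : t (closedPoint Ω) = g (genericPoint (Spec (CommRingCat.of A))) := by
    show g (jA ((τ ≫ σ) (closedPoint Ω))) = _
    rw [Subsingleton.elim (α := PrimeSpectrum K) ((τ ≫ σ) (closedPoint Ω)) (closedPoint K), hjA]
  rw [ht] at c1 c2
  obtain ⟨m1, m2⟩ := GeomSpread4.mk_eq_of_iso e'
  rw [c1, c2, show (irreducibleComponents ↥(pullback f t)).encard = (irreducibleComponents ↥(pullback r τ)).encard from
    congrArg Cardinal.toENat m1.symm, show ENat.card (_root_.ConnectedComponents ↥(pullback f t)) =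
      ENat.card (_root_.ConnectedComponents ↥(pullback r τ)) from congrArg Cardinal.toENat m2.symm]
  refine ((irreducibleComponents_le_of_preimage π π.continuous (fun T hT => hlev Ω T hT)).trans_eq hcards).trans ?_
  haveI : Surjective π := by
    haveI : Surjective τ := GeomIrr.surjective_specMap L Ω
    exact MorphismProperty.pullback_fst (P := @Surjective) _ _ inferInstance
  exact ZConn5.card_cc_le_of_meets π π.continuous fun b => ⟨b, mem_connectedComponent, π.surjective b⟩

theorem isOpen_noetherian_ptInt [IsLocallyNoetherian Y] (f : X ⟶ Y) [IsProper f] [Flat f]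
    [LocallyOfFinitePresentation f] :
    IsOpen {y : Y | ∀ x : f.fiber y, FBase.IsGeomPtIntegralAt (f.fiberToSpecResidueField y) x} := by
  have hG := FibDepth5.isOpen_forall_fiber f (fun y z => FBase.IsGeomReducedAt (f.fiberToSpecResidueField y) z)
      (by
        convert FibDepth5.isOpen_flat_geomReduced f using 1
        exact Set.ext fun x => ⟨fun h => ⟨Flat.stalkMap f x, h⟩, fun h => h.2⟩)
  refine isOpen_iff_mem_nhds.2 fun y hy => ?_
  refine Filter.mem_of_superset ((isClosed_closure (s :=
    {z : Y | ∀ x : f.fiber z, FBase.IsGeomPtIntegralAt (f.fiberToSpecResidueField z) x}ᶜ)).isOpen_compl.mem_nhds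
    (ZConn5.notMem_closure (fun x => ((Cons12.isLocallyConstructible_fibre_geomPtIntegral f) x).imp fun U h =>
      ⟨h.1, h.2.1, h.2.2.compl⟩) fun y' hy' hne => hne ?_)) fun z hz => not_not.1 fun h => hz (subset_closure h)
  show ∀ x : f.fiber y', FBase.IsGeomPtIntegralAt (f.fiberToSpecResidueField y') x
  by_cases he : y' = y
  · subst he; exact hy
  obtain ⟨A, _, _, _, _, _, g, hg, hg'⟩ := ZConn5.exists_complete_trait hy' he
  subst hg hg'
  refine (Cons12.forall_fibre_geomPtIntegral_iff f _).2 ⟨?_, le_antisymm (count_generic_ptInt f g hy) ?_⟩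
  · exact (ZConn5.geometricallyReduced_iff_forall (k := Y.residueField _) _).2
      (hy'.mem_open hG fun x => GeomIntUnibr4.isGeomReducedAt_of_geomPtIntegral _ x (hy x))
  · rw [MoreMor.nGeomIrredComp, MoreMor.nGeomConnComp]
    refine Cardinal.toENat.monotone' (Cardinal.mk_le_of_surjective
      (f := fun S : irreducibleComponents ↥(MoreMor.geomFiber f _) => ConnectedComponents.mk S.2.1.1.some) fun c => ?_)
    obtain ⟨x, rfl⟩ := ConnectedComponents.surjective_coe c
    have h := irreducibleComponent_mem_irreducibleComponents x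
    exact ⟨⟨_, h⟩, ConnectedComponents.coe_eq_coe'.2
      (h.1.2.isPreconnected.subset_connectedComponent mem_irreducibleComponent h.1.1.some_mem)⟩

theorem isOpen_ptIntegral (f : X ⟶ Y) [IsProper f] [Flat f] [LocallyOfFinitePresentation f] :
    IsOpen {y : Y | ∀ x : f.fiber y, FBase.IsGeomPtIntegralAt (f.fiberToSpecResidueField y) x} := by
  refine isOpen_iff_mem_nhds.2 fun y hy => ?_
  obtain ⟨U, hU, hyU, -⟩ := exists_isAffineOpen_mem_and_subset (X := Y) (x := y) (U := ⊤) trivial
  let j := hU.fromSpec
  obtain ⟨S₁, X₁, _, π, u₁, q, sq, _, _, _⟩ := ZConn5.exists_model (pullback.snd f j)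
  have hsq : IsPullback (pullback.fst f j) (pullback.snd f j) f j := IsPullback.of_hasPullback f j
  have key : ∀ p, (∀ x : f.fiber (j p), FBase.IsGeomPtIntegralAt (f.fiberToSpecResidueField (j p)) x) ↔
      (∀ x : u₁.fiber (π p), FBase.IsGeomPtIntegralAt (u₁.fiberToSpecResidueField (π p)) x) := fun p => by
    rw [Cons12.forall_fibre_geomPtIntegral_iff, Cons12.forall_fibre_geomPtIntegral_iff,
      ← ZConn5.geometricallyReduced_fibre_iff hsq, ZConn5.geometricallyReduced_fibre_iff sq,
      ← (GeomSpread4.count_baseChange hsq p).1, ← (GeomSpread4.count_baseChange hsq p).2,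
      (GeomSpread4.count_baseChange sq p).1, (GeomSpread4.count_baseChange sq p).2]
  let p := hU.primeIdealOf ⟨y, hyU⟩
  have hp : j p = y := hU.fromSpec_primeIdealOf ⟨y, hyU⟩
  rw [← hp] at hy ⊢
  have hV := ((isOpen_noetherian_ptInt u₁).preimage π.continuous).mem_nhds (show π p ∈
    {y : S₁ | ∀ x : u₁.fiber y, FBase.IsGeomPtIntegralAt (u₁.fiberToSpecResidueField y) x} from (key p).1 hy)
  refine Filter.mem_of_superset (j.isOpenEmbedding.isOpenMap.image_mem_nhds hV) ?_
  rintro _ ⟨z, hz, rfl⟩
  exact (key z).2 hz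

end Groth.Agent.GeomInt5
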