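import Groth.Agent.Lib.FlatDepth.FibreStalk
import Groth.Agent.Lib.DVRVal.Curve
import Groth.Agent.Lib.EquidimAt4
import Mathlib.RingTheory.DiscreteValuationRing.TFAE
import Mathlib.AlgebraicGeometry.Morphisms.Proper
import Mathlib.AlgebraicGeometry.Morphisms.Flat

/-!
A proper flat scheme over a trait with integral closed fibre is irreducible.
-/

set_option autoImplicit false
set_option linter.style.haveILetI false
set_option backward.isDefEq.respectTransparency false

universe u

open CategoryTheory CategoryTheory.Limits AlgebraicGeometry TopologicalSpace IsLocalRing Topology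

namespace Groth.Agent.GeomInt5

theorem isDomain_of_regular_prime {O : Type u} [CommRing O] [IsLocalRing O] [IsNoetherianRing O] {ϖ : O}
    (hm : ϖ ∈ maximalIdeal O) (hreg : IsSMulRegular O ϖ) (hp : (Ideal.span {ϖ}).IsPrime) : IsDomain O := by
  have hint : ⨅ n : ℕ, Ideal.span {ϖ} ^ n = ⊥ :=
    Ideal.iInf_pow_eq_bot_of_isLocalRing _ (ne_top_of_le_ne_top (maximalIdeal.isMaximal O).ne_top
      ((Ideal.span_singleton_le_iff_mem _).2 hm))
  have key : ∀ a : O, a ≠ 0 → ∃ (i : ℕ) (b : O), ¬ ϖ ∣ b ∧ a = ϖ ^ i * b := by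
    intro a ha
    obtain ⟨n, hn⟩ : ∃ n, a ∉ Ideal.span {ϖ} ^ n := by
      by_contra h
      push Not at h
      exact ha (by simpa [hint] using Ideal.mem_iInf.2 h)
    induction n with
    | zero => simp at hn
    | succ n ih =>
      by_cases hc : a ∈ Ideal.span {ϖ} ^ n
      · rw [Ideal.span_singleton_pow, Ideal.mem_span_singleton] at hc
        obtain ⟨b, rfl⟩ := hc
        refine ⟨n, b, fun hb => hn ?_, rfl⟩
        rw [Ideal.span_singleton_pow, Ideal.mem_span_singleton, pow_succ]
        exact mul_dvd_mul_left _ hb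
      · exact ih hc
  haveI : NoZeroDivisors O := ⟨fun {a b} hab => by
    by_contra h
    push Not at h
    obtain ⟨i, a', ha', rfl⟩ := key a h.1
    obtain ⟨j, b', hb', rfl⟩ := key b h.2
    have h1 : ϖ ^ (i + j) * (a' * b') = 0 := by rw [← hab, pow_add]; ring
    have h2 : a' * b' = 0 := (hreg.pow (i + j)) (show ϖ ^ (i + j) • (a' * b') = ϖ ^ (i + j) • 0 by rw [smul_zero, smul_eq_mul, h1])
    rcases hp.mem_or_mem (show a' * b' ∈ Ideal.span {ϖ} from h2 ▸ zero_mem _) with h3 | h3
    · exact ha' (Ideal.mem_span_singleton.1 h3)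
    · exact hb' (Ideal.mem_span_singleton.1 h3)⟩
  exact NoZeroDivisors.to_isDomain O

variable {B : Type u} [CommRing B] [IsDomain B] [IsDiscreteValuationRing B] {X : Scheme.{u}}
  (q : X ⟶ Spec (CommRingCat.of B))

/-- A point of the closed fibre with integral fibre stalk has integral stalk. -/
theorem isDomain_stalk [Flat q] [LocallyOfFiniteType q] (x : X) (hx : q x = closedPoint B)
    (hd : IsDomain ((q.fiber (q x)).presheaf.stalk (q.asFiber x))) : IsDomain (X.presheaf.stalk x) := by
  haveI : IsLocallyNoetherian X := LocallyOfFiniteType.isLocallyNoetherian q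
  haveI : IsNoetherianRing (X.presheaf.stalk x) := inferInstance
  obtain ⟨e⟩ := FlatDepth.nonempty_fiberStalkEquiv q x
  haveI : IsDomain (CInt.fiberStalk q x) := hd
  haveI hprime : ((maximalIdeal ((Spec (CommRingCat.of B)).presheaf.stalk (q x))).map (q.stalkMap x).hom).IsPrime :=
    (Ideal.Quotient.isDomain_iff_prime (((maximalIdeal ((Spec (CommRingCat.of B)).presheaf.stalk (q x))).map (q.stalkMap x).hom))).1 (MulEquiv.isDomain _ e.toMulEquiv)
  let S := (Spec (CommRingCat.of B)).presheaf.stalk (q x)
  letI : Algebra B S := StructureSheaf.stalkAlgebra B (q x)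
  haveI : IsLocalization.AtPrime S (q x : PrimeSpectrum B).asIdeal := StructureSheaf.IsLocalization.to_stalk B (q x)
  obtain ⟨p, hp⟩ := IsDiscreteValuationRing.exists_irreducible B
  have hmax : maximalIdeal S = Ideal.span {algebraMap B S p} := by
    rw [← IsLocalization.AtPrime.map_eq_maximalIdeal (q x : PrimeSpectrum B).asIdeal S,
      show (q x : PrimeSpectrum B).asIdeal = maximalIdeal B by rw [hx]; rfl,
      hp.maximalIdeal_eq, Ideal.map_span, Set.image_singleton]
  haveI : IsIntegral (Spec (CommRingCat.of B)) := inferInstance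
  have hne : algebraMap B S p ≠ 0 := fun h => hp.ne_zero
    ((IsLocalization.injective (M := (q x : PrimeSpectrum B).asIdeal.primeCompl) S (Ideal.primeCompl_le_nonZeroDivisors _)) (h.trans (map_zero _).symm))
  letI := (q.stalkMap x).hom.toAlgebra
  haveI : Module.Flat S (X.presheaf.stalk x) := Flat.stalkMap q x
  have hreg : IsSMulRegular (X.presheaf.stalk x) (q.stalkMap x (algebraMap B S p)) :=
    IsSMulRegular.of_flat (show IsSMulRegular S (algebraMap B S p) from mul_right_injective₀ hne)
  have hmap : (maximalIdeal S).map (q.stalkMap x).hom = Ideal.span {q.stalkMap x (algebraMap B S p)} := by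
    rw [hmax, Ideal.map_span, Set.image_singleton]
  refine isDomain_of_regular_prime ?_ hreg (hmap ▸ hprime)
  rw [← Ideal.span_singleton_le_iff_mem, ← hmap]
  exact Ideal.map_le_iff_le_comap.2 fun s hs => map_nonunit (q.stalkMap x).hom s hs

theorem irreducibleSpace [IsProper q] [Flat q] [hint : IsIntegral (q.fiber (closedPoint B))] : IrreducibleSpace X := by
  haveI : IsLocallyNoetherian X := LocallyOfFiniteType.isLocallyNoetherian q
  have hdom : ∀ x : X, q x = closedPoint B → IsDomain (X.presheaf.stalk x) := fun x hx => by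
    haveI : IsIntegral (q.fiber (q x)) := by rw [hx]; exact hint
    exact isDomain_stalk q x hx inferInstance
  haveI hne : Nonempty (q.fiber (closedPoint B)) := inferInstance
  obtain ⟨z⟩ := hne
  let ξ : X := q.fiberι (closedPoint B) (genericPoint _)
  have hξ : ∀ x : X, q x = closedPoint B → ξ ⤳ x := by
    intro x hx
    obtain ⟨w, rfl⟩ : x ∈ Set.range (q.fiberι (closedPoint B)) := by rw [q.range_fiberι]; exact hx
    exact ((genericPoint_spec _).specializes trivial).map (q.fiberι _).continuous
  have hqξ : q ξ = closedPoint B := by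
    have h : ξ ∈ Set.range (q.fiberι (closedPoint B)) := ⟨_, rfl⟩
    rwa [q.range_fiberι] at h
  haveI : CompactSpace X := QuasiCompact.compactSpace_of_compactSpace q
  haveI : AlgebraicGeometry.IsNoetherian X := {}
  obtain ⟨t, htξ, htmax⟩ := EquidimAt4.exists_max_specializes ξ
  have hgen : ∀ a : X, t ⤳ a := by
    intro a
    obtain ⟨s, hsa, hsmax⟩ := EquidimAt4.exists_max_specializes a
    obtain ⟨c, hsc', hc⟩ := (isClosed_closure (s := ({s} : Set X))).exists_closed_singleton ⟨s, subset_closure rfl⟩
    have hsc : s ⤳ c := specializes_iff_mem_closure.2 hsc'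
    have hqc : q c = closedPoint B := by
      have h1 := q.isClosedMap _ hc
      rw [Set.image_singleton] at h1
      exact ((specializes_closedPoint (q c)).mem_closed h1 rfl).symm
    haveI := hdom c hqc
    have hgenc : ∀ r : X, r ⤳ c → X.fromSpecStalk c ⟨⊥, Ideal.isPrime_bot⟩ ⤳ r := fun r hr => by
      obtain ⟨w, rfl⟩ := (Scheme.range_fromSpecStalk (x := c)).symm.subset (show r ∈ {y | y ⤳ c} from hr)
      exact ((PrimeSpectrum.le_iff_specializes ⟨⊥, Ideal.isPrime_bot⟩ w).1 bot_le).map (X.fromSpecStalk c).continuous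
    have h1 := hsmax _ (hgenc s hsc)
    have h2 := htmax _ (hgenc t (htξ.trans (hξ c hqc)))
    rw [← h2, h1]
    exact hsa
  haveI : Nonempty X := ⟨ξ⟩
  haveI : PreirreducibleSpace X := ⟨fun u v hu hv ⟨a, _, ha⟩ ⟨b, _, hb⟩ =>
    ⟨t, trivial, (hgen a).mem_open hu ha, (hgen b).mem_open hv hb⟩⟩
  exact ⟨inferInstance⟩

end Groth.Agent.GeomInt5
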